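import Mathlib
import Cfsg.Agent.Lib.PGroup.Frattini
import Cfsg.Agent.Lib.PGroup.NormalElem
import Cfsg.Agent.Lib.CoprimeOmega.Basic
import Cfsg.Agent.Lib.Fusion87.EssentialSmall

/-!
Groups of order `p ^ 4` without a characteristic flag.
-/

set_option autoImplicit false
set_option linter.unusedSectionVars false

namespace Cfsg.Agent.Lib.EssentialFour

open Subgroup
open scoped commutatorElement

universe u

variable {p : ℕ} [hp : Fact p.Prime] {G : Type u} [Group G] [Finite G]

theorem bijective_of_surjective {A : Type*} [Group A] [Finite A] (f : A →* G)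
    (hs : Function.Surjective f) (h : Nat.card A = Nat.card G) : Nonempty (G ≃* A) :=
  ⟨(MulEquiv.ofBijective f ((Nat.bijective_iff_surjective_and_card f).2 ⟨hs, h⟩)).symm⟩

theorem index_centralizer_dvd {h : G} {N : Subgroup G} (hN : N ≤ center G)
    (hc : ∀ g : G, ⁅g, h⁆ ∈ N) : (centralizer ({h} : Set G)).index ∣ Nat.card N := by
  let f : G →* N := MonoidHom.mk' (fun g => ⟨⁅g, h⁆, hc g⟩) fun a b => Subtype.ext (by
    show ⁅a * b, h⁆ = ⁅a, h⁆ * ⁅b, h⁆
    have hb : a * ⁅b, h⁆ = ⁅b, h⁆ * a := mem_center_iff.1 (hN (hc b)) a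
    have hb' : ⁅a, h⁆ * ⁅b, h⁆ = ⁅b, h⁆ * ⁅a, h⁆ := mem_center_iff.1 (hN (hc b)) _
    calc ⁅a * b, h⁆ = a * ⁅b, h⁆ * a⁻¹ * ⁅a, h⁆ := by simp only [commutatorElement_def]; group
      _ = ⁅a, h⁆ * ⁅b, h⁆ := by rw [hb, mul_inv_cancel_right, hb'])
  have hker : f.ker = centralizer ({h} : Set G) := by
    ext g
    rw [MonoidHom.mem_ker, mem_centralizer_singleton_iff, Subtype.ext_iff]
    show ⁅g, h⁆ = 1 ↔ _
    exact commutatorElement_eq_one_iff_mul_comm
  rw [← hker, index_ker]
  exact card_subgroup_dvd_card _

theorem card_sup_zpowers_le {A : Subgroup G} [A.Normal] {g : G} (hg : g ^ p ∈ A) :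
    Nat.card ↥(A ⊔ zpowers g) ≤ p * Nat.card A := by
  let f : Fin p × A → ↥(A ⊔ zpowers g) := fun z =>
    ⟨(z.2 : G) * g ^ (z.1 : ℕ), mul_mem (mem_sup_left z.2.2) (mem_sup_right (npow_mem_zpowers _ _))⟩
  have hs : Function.Surjective f := by
    rintro ⟨y, hy⟩
    obtain ⟨a, ha, w, hw, rfl⟩ := mem_sup_of_normal_left.1 hy
    obtain ⟨k, rfl⟩ := mem_zpowers_iff.1 hw
    have hppos : (0 : ℤ) < p := by exact_mod_cast hp.out.pos
    have hr : (k % (p : ℤ)).toNat < p := by
      have h1 := Int.emod_lt_of_pos k hppos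
      have h2 := Int.emod_nonneg k hppos.ne'
      omega
    refine ⟨(⟨_, hr⟩, ⟨a * (g ^ p) ^ (k / p), A.mul_mem ha (A.zpow_mem hg _)⟩), Subtype.ext ?_⟩
    show a * (g ^ p) ^ (k / p) * g ^ ((k % (p : ℤ)).toNat) = a * g ^ k
    rw [← zpow_natCast g p, ← zpow_mul, ← zpow_natCast g (k % (p : ℤ)).toNat,
      Int.toNat_of_nonneg (Int.emod_nonneg k hppos.ne'), mul_assoc, ← zpow_add,
      Int.mul_ediv_add_emod]
  refine (Nat.card_le_card_of_surjective f hs).trans ?_
  rw [Nat.card_prod, Nat.card_fin]

theorem card_le_prime_mul_of_lt {A B : Subgroup G} (hG : IsPGroup p G) (h : A < B) :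
    p * Nat.card A ≤ Nat.card B := by
  obtain ⟨i, hi⟩ := IsPGroup.iff_card.1 (hG.to_subgroup A)
  obtain ⟨j, hj⟩ := IsPGroup.iff_card.1 (hG.to_subgroup B)
  have hlt : Nat.card A < Nat.card B :=
    lt_of_le_of_ne (card_le_of_le h.le) fun e => h.ne (eq_of_le_of_card_ge h.le e.ge)
  rw [hi, hj] at hlt ⊢
  rw [← pow_succ']
  exact Nat.pow_le_pow_right hp.out.pos ((Nat.pow_lt_pow_iff_right hp.out.one_lt).1 hlt)

theorem pow_sq_eq_one (hG : IsPGroup p G) {k : ℕ} (hΦ : Nat.card (frattini G) = p ^ k) (x : G) :
    x ^ (p * p ^ k) = 1 := by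
  have h1 : (⟨x ^ p, PFrattini.pow_mem_frattini hG x⟩ : frattini G) ^ (p ^ k) = 1 := by
    rw [← hΦ]; exact pow_card_eq_one'
  rw [pow_mul]
  simpa using congrArg Subtype.val h1

/-- In a group of order `p ^ 4` with Frattini subgroup of order `p`, the centralisers of two
non-commuting elements meet in the centre, of order `p ^ 2`. -/
theorem center_eq (hG : IsPGroup p G) (hcard : Nat.card G = p ^ 4)
    (hΦ : Nat.card (frattini G) = p) {x y : G} (hxy : x * y ≠ y * x) :
    center G = centralizer ({x} : Set G) ⊓ centralizer ({y} : Set G) ∧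
      Nat.card (center G) = p ^ 2 ∧ zpowers x ⊔ zpowers y ⊔ center G = ⊤ := by
  have hΦZ : frattini G ≤ center G := NormalElem.le_center_of_card_prime hG hΦ.le
  have hcomm : ∀ h g : G, ⁅g, h⁆ ∈ frattini G := fun h g =>
    PFrattini.commutator_le_frattini hG (commutator_mem_commutator (mem_top g) (mem_top h))
  have hidx : ∀ h w : G, h * w ≠ w * h → (centralizer ({h} : Set G)).index = p := by
    intro h w hw
    have hd := index_centralizer_dvd hΦZ (hcomm h)
    rw [hΦ] at hd
    refine ((Nat.dvd_prime hp.out).1 hd).resolve_left fun e => hw ?_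
    rw [index_eq_one] at e
    exact ((mem_centralizer_singleton_iff.1 (e ▸ mem_top w))).symm
  have h3 : ∀ h w : G, h * w ≠ w * h → Nat.card (centralizer ({h} : Set G)) = p ^ 3 := by
    intro h w hw
    have h1 := (centralizer ({h} : Set G)).card_mul_index
    rw [hidx h w hw, hcard] at h1
    exact Nat.eq_of_mul_eq_mul_right hp.out.pos (h1.trans (by ring))
  set K := centralizer ({x} : Set G) ⊓ centralizer ({y} : Set G) with hK
  have hKy : K < centralizer ({x} : Set G) := lt_of_le_of_ne inf_le_left fun e =>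
    hxy (mem_centralizer_singleton_iff.1
      ((mem_inf.1 (e.symm ▸ mem_centralizer_singleton_iff.2 rfl : x ∈ K)).2))
  have hKle : Nat.card K ≤ p ^ 2 := by
    have h1 := card_le_prime_mul_of_lt hG hKy
    rw [h3 x y hxy] at h1
    exact Nat.le_of_mul_le_mul_left (h1.trans_eq (by ring)) hp.out.pos
  have hKge : p ^ 2 ≤ Nat.card K := by
    have h1 : K.index ≤ p * p :=
      (index_inf_le (H := centralizer ({x} : Set G)) (K := centralizer ({y} : Set G))).trans
        (by rw [hidx x y hxy, hidx y x (Ne.symm hxy)])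
    have h2 := K.card_mul_index
    rw [hcard] at h2
    refine Nat.le_of_mul_le_mul_right ?_ (Nat.mul_pos hp.out.pos hp.out.pos)
    calc p ^ 2 * (p * p) = Nat.card K * K.index := by rw [h2]; ring
      _ ≤ Nat.card K * (p * p) := Nat.mul_le_mul_left _ h1
  have hKcard := le_antisymm hKle hKge
  have hKc : ∀ a ∈ K, ∀ b ∈ K, a * b = b * a := fun a ha b hb =>
    congrArg Subtype.val ((IsPGroup.commutative_of_card_eq_prime_sq hKcard) ⟨a, ha⟩ ⟨b, hb⟩)
  have hxK : x ∉ K := fun h => hxy (mem_centralizer_singleton_iff.1 (mem_inf.1 h).2)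
  have hKn : K.Normal := Subgroup.Normal.of_commutator_le _ fun c hc =>
    mem_inf.2 ⟨mem_centralizer_singleton_iff.2
      (mem_center_iff.1 (hΦZ (PFrattini.commutator_le_frattini hG hc)) x).symm,
      mem_centralizer_singleton_iff.2
      (mem_center_iff.1 (hΦZ (PFrattini.commutator_le_frattini hG hc)) y).symm⟩
  have htop : zpowers x ⊔ zpowers y ⊔ K = ⊤ := by
    refine eq_top_of_le_card _ ?_
    have h1 := card_le_prime_mul_of_lt hG (lt_of_le_of_ne (le_sup_right : K ≤ zpowers x ⊔ K)
      fun e => hxK (e ▸ mem_sup_left (mem_zpowers x)))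
    have hlt : zpowers x ⊔ K < zpowers x ⊔ zpowers y ⊔ K := by
      refine lt_of_le_of_ne (sup_le (le_sup_of_le_left le_sup_left) le_sup_right) fun e => hxy ?_
      have hle : zpowers x ⊔ K ≤ centralizer ({x} : Set G) :=
        sup_le (zpowers_le.2 (mem_centralizer_singleton_iff.2 rfl)) inf_le_left
      exact (mem_centralizer_singleton_iff.1
        (hle (e ▸ mem_sup_left (mem_sup_right (mem_zpowers y))))).symm
    have h2 := card_le_prime_mul_of_lt hG hlt
    rw [hKcard] at h1
    rw [hcard]
    calc p ^ 4 = p * (p * p ^ 2) := by ring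
      _ ≤ p * Nat.card ↥(zpowers x ⊔ K) := Nat.mul_le_mul_left _ h1
      _ ≤ _ := h2
  have hKZ : K = center G := by
    refine le_antisymm (fun a ha => mem_center_iff.2 fun g => ?_) (fun a ha => mem_inf.2
      ⟨mem_centralizer_singleton_iff.2 (mem_center_iff.1 ha x).symm,
        mem_centralizer_singleton_iff.2 (mem_center_iff.1 ha y).symm⟩)
    have hle : zpowers x ⊔ zpowers y ⊔ K ≤ centralizer ({a} : Set G) := sup_le (sup_le
      (zpowers_le.2 (mem_centralizer_singleton_iff.2
        (mem_centralizer_singleton_iff.1 (mem_inf.1 ha).1).symm))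
      (zpowers_le.2 (mem_centralizer_singleton_iff.2
        (mem_centralizer_singleton_iff.1 (mem_inf.1 ha).2).symm)))
      (fun b hb => mem_centralizer_singleton_iff.2 (hKc b hb a ha))
    exact mem_centralizer_singleton_iff.1 (hle (htop ▸ mem_top g))
  exact ⟨hKZ.symm, hKZ ▸ hKcard, hKZ ▸ htop⟩

/-- A power map modulo the derived subgroup gives a characteristic maximal subgroup. -/
theorem false_of_index_sq (hG : IsPGroup p G) (hcard : Nat.card G = p ^ 4)
    (hna : ¬ IsMulCommutative G) (hidx : (frattini G).index = p ^ 2)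
    (hW : ∀ W : Subgroup G, W.Characteristic → frattini G ≤ W → W.index = p → False) : False := by
  have hΦ : Nat.card (frattini G) = p ^ 2 := by
    have h1 := (frattini G).card_mul_index
    rw [hidx, hcard] at h1
    exact Nat.eq_of_mul_eq_mul_right (pow_pos hp.out.pos 2) (h1.trans (by ring))
  have hcΦ := PFrattini.commutator_le_frattini hG
  have hne : commutator G ≠ ⊥ := fun h => hna ⟨⟨fun a b => by
    have := commutator_mem_commutator (mem_top a) (mem_top b)
    rw [← _root_.commutator_def, h, mem_bot, commutatorElement_eq_one_iff_mul_comm] at this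
    exact this⟩⟩
  by_cases hc : commutator G = frattini G
  · -- class three
    set Φ := frattini G with hΦd
    have hΦcomm : ∀ a ∈ Φ, ∀ b ∈ Φ, a * b = b * a := fun a ha b hb =>
      congrArg Subtype.val ((IsPGroup.commutative_of_card_eq_prime_sq hΦ) ⟨a, ha⟩ ⟨b, hb⟩)
    have hnil := hG.isNilpotent
    have hlt : ⁅Φ, (⊤ : Subgroup G)⁆ < Φ := by
      refine lt_of_le_of_ne ?_ ?_
      · exact commutator_le.2 fun a ha b _ => by
          rw [commutatorElement_def, mul_assoc, mul_assoc]
          exact Φ.mul_mem ha (by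
            rw [← mul_assoc]
            exact (inferInstance : Φ.Normal).conj_mem _ (Φ.inv_mem ha) b)
      · intro e
        have : ∀ n, Φ ≤ (⊤ : Subgroup G).lowerCentralSeries n := by
          intro n
          induction n with
          | zero => exact le_top
          | succ n ih =>
            rw [Subgroup.lowerCentralSeries_succ]
            exact e.ge.trans (commutator_mono ih le_rfl)
        obtain ⟨n, hn⟩ := Subgroup.nilpotent_iff_lowerCentralSeries.1 hnil
        have h2 := card_le_of_le (this n)
        rw [hΦ, hn, card_bot] at h2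
        exact absurd h2 (not_le.2 (Nat.one_lt_pow two_ne_zero hp.out.one_lt))
    set N := ⁅Φ, (⊤ : Subgroup G)⁆ with hN
    have hNcard : Nat.card N ∣ p := by
      obtain ⟨i, hi⟩ := IsPGroup.iff_card.1 (hG.to_subgroup N)
      have h2 := card_le_prime_mul_of_lt hG hlt
      rw [hi, hΦ, ← pow_succ', Nat.pow_le_pow_iff_right hp.out.one_lt] at h2
      rw [hi]
      exact (Nat.pow_dvd_pow p (by omega : i ≤ 1)).trans (pow_one p).dvd
    have hNZ : N ≤ center G := by
      rcases (Nat.dvd_prime hp.out).1 hNcard with h | h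
      · rw [eq_bot_of_card_eq _ h]; exact bot_le
      · exact NormalElem.le_center_of_card_prime hG h.le
    -- the centraliser of `Φ`
    set W := centralizer (Φ : Set G) with hWd
    have hWchar : W.Characteristic := by
      have : Φ.Characteristic := frattini_characteristic
      infer_instance
    have hΦW : Φ ≤ W := fun a ha b hb => hΦcomm b hb a ha
    by_cases hWtop : W = ⊤
    · -- then the derived subgroup has order `p`
      have hcen : ∀ a ∈ Φ, ∀ g : G, g * a = a * g := fun a ha g =>
        ((hWtop ▸ mem_top g : g ∈ W) a ha).symm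
      obtain ⟨T, hT, hTtop⟩ := Fusion87.exists_generators_of_index_frattini hG 2 Φ hidx.le
      obtain ⟨a, b, hab⟩ : ∃ a b : G, (T : Set G) ⊆ {a, b} := by
        classical
        rcases T.eq_empty_or_nonempty with rfl | ⟨a, ha⟩
        · exact ⟨1, 1, by simp⟩
        rcases (T.erase a).eq_empty_or_nonempty with he | ⟨b, hb⟩
        · refine ⟨a, a, fun t ht => ?_⟩
          by_contra hta
          exact Finset.notMem_empty t (he ▸ Finset.mem_erase.2 ⟨fun e => hta (Or.inl e), ht⟩)
        · refine ⟨a, b, fun t ht => ?_⟩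
          by_contra hta
          simp only [Set.mem_insert_iff, Set.mem_singleton_iff, not_or] at hta
          have h1 := Finset.card_le_card (show ({a, b, t} : Finset G) ⊆ T by
            intro s hs
            simp only [Finset.mem_insert, Finset.mem_singleton] at hs
            rcases hs with rfl | rfl | rfl
            · exact ha
            · exact (Finset.mem_erase.1 hb).2
            · exact ht)
          rw [Finset.card_insert_of_notMem (by
              simp only [Finset.mem_insert, Finset.mem_singleton, not_or]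
              exact ⟨fun e => (Finset.mem_erase.1 hb).1 e.symm, fun e => hta.1 e.symm⟩),
            Finset.card_pair (fun e => hta.2 e.symm)] at h1
          omega
      have hgen : zpowers a ⊔ zpowers b ⊔ Φ = ⊤ := by
        refine top_le_iff.1 (hTtop ▸ sup_le_sup_right ((closure_le _).2 fun t ht => ?_) _)
        rcases hab ht with rfl | rfl
        · exact mem_sup_left (mem_zpowers t)
        · exact mem_sup_right (mem_zpowers t)
      set c := ⁅a, b⁆ with hcd
      have hcΦ' : c ∈ Φ := hcΦ (commutator_mem_commutator (mem_top a) (mem_top b))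
      have hcp : c ^ p = 1 := by
        have h1 : b * a * b⁻¹ = c⁻¹ * a := by rw [hcd]; simp only [commutatorElement_def]; group
        have h2 : (b * a * b⁻¹) ^ p = a ^ p := by
          rw [conj_pow, hcen _ (PFrattini.pow_mem_frattini hG a) b, mul_inv_cancel_right]
        rw [h1, (show Commute c⁻¹ a from (hcen _ (Φ.inv_mem hcΦ') a).symm).mul_pow,
          mul_eq_right, inv_pow, inv_eq_one] at h2
        exact h2
      have hle : commutator G ≤ zpowers c := by
        have hcZ : zpowers c ≤ center G := zpowers_le.2 (mem_center_iff.2 (hcen c hcΦ'))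
        have : (zpowers c).Normal := ⟨fun n hn g => by
          rw [mem_center_iff.1 (hcZ hn) g, mul_inv_cancel_right]; exact hn⟩
        rw [_root_.commutator_def, commutator_le]
        intro g _ g' _
        rw [← QuotientGroup.eq_one_iff, ← QuotientGroup.mk'_apply, map_commutatorElement,
          commutatorElement_eq_one_iff_mul_comm]
        set f := QuotientGroup.mk' (zpowers c)
        have hall : ∀ s t : G, s ∈ ({a, b} : Set G) ∪ Φ → t ∈ ({a, b} : Set G) ∪ Φ →
            f s * f t = f t * f s := by
          intro s t hs ht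
          have hab' : f a * f b = f b * f a := by
            rw [← commutatorElement_eq_one_iff_mul_comm, ← map_commutatorElement]
            exact (QuotientGroup.eq_one_iff _).2 (mem_zpowers c)
          rcases hs with hs | hs
          · rcases ht with ht | ht
            · rcases hs with rfl | rfl <;> rcases ht with rfl | rfl
              · rfl
              · exact hab'
              · exact hab'.symm
              · rfl
            · rw [← map_mul, ← map_mul, hcen t ht s]
          · rw [← map_mul, ← map_mul, hcen s hs t]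
        have hcl : (⊤ : Subgroup G) ≤ closure (({a, b} : Set G) ∪ Φ) := by
          rw [← hgen]
          exact sup_le (sup_le (zpowers_le.2 (subset_closure (Or.inl (Or.inl rfl))))
            (zpowers_le.2 (subset_closure (Or.inl (Or.inr rfl)))))
            fun z hz => subset_closure (Or.inr hz)
        have key : ∀ s ∈ ({a, b} : Set G) ∪ Φ, f g' * f s = f s * f g' := by
          intro s hs
          have hle' : closure (({a, b} : Set G) ∪ Φ) ≤
              (centralizer ({f s} : Set _)).comap f := (closure_le _).2 fun t ht =>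
            mem_centralizer_singleton_iff.2 (hall t s ht hs)
          exact mem_centralizer_singleton_iff.1 (hle' (hcl (mem_top g')))
        have hle' : closure (({a, b} : Set G) ∪ Φ) ≤
            (centralizer ({f g'} : Set _)).comap f := (closure_le _).2 fun t ht =>
          mem_centralizer_singleton_iff.2 (key t ht).symm
        exact mem_centralizer_singleton_iff.1 (hle' (hcl (mem_top g)))
      have h3 := card_le_of_le hle
      rw [hc, hΦ, Nat.card_zpowers] at h3
      have h4 := Nat.le_of_dvd hp.out.pos (orderOf_dvd_of_pow_eq_one hcp)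
      nlinarith [hp.out.two_le]
    refine hW W hWchar hΦW ?_
    obtain ⟨h₀, hh₀, hh₀N⟩ := SetLike.exists_of_lt hlt
    have hsup : zpowers h₀ ⊔ N = Φ := by
      refine eq_of_le_of_card_ge (sup_le (zpowers_le.2 hh₀) hlt.le) ?_
      have hlt' : N < zpowers h₀ ⊔ N := lt_of_le_of_ne le_sup_right fun e =>
        hh₀N (e ▸ mem_sup_left (mem_zpowers h₀))
      rcases (Nat.dvd_prime hp.out).1 hNcard with h | h
      · exfalso
        refine hWtop (eq_top_iff.2 fun g _ => fun z hz => ?_)
        have h5 : ⁅z, g⁆ ∈ N := commutator_mem_commutator hz (mem_top g)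
        rw [eq_bot_of_card_eq _ h, mem_bot, commutatorElement_eq_one_iff_mul_comm] at h5
        exact h5
      · have h5 := card_le_prime_mul_of_lt hG hlt'
        rw [h] at h5
        rw [hΦ, pow_two]
        exact h5
    have hW' : W = centralizer ({h₀} : Set G) := by
      refine le_antisymm (fun g hg => mem_centralizer_singleton_iff.2 (hg h₀ hh₀).symm) ?_
      intro g hg z hz
      have hle : zpowers h₀ ⊔ N ≤ centralizer ({g} : Set G) := sup_le
        (zpowers_le.2 (mem_centralizer_singleton_iff.2 (mem_centralizer_singleton_iff.1 hg).symm))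
        (fun w hw => mem_centralizer_singleton_iff.2 ((mem_center_iff.1 (hNZ hw) g).symm))
      exact mem_centralizer_singleton_iff.1 (hle (hsup.symm ▸ hz))
    have hd := (index_centralizer_dvd hNZ (h := h₀) fun g => by
      rw [← commutatorElement_inv]
      exact N.inv_mem (commutator_mem_commutator hh₀ (mem_top g))).trans hNcard
    rw [← hW'] at hd
    exact ((Nat.dvd_prime hp.out).1 hd).resolve_left fun e => hWtop (index_eq_one.1 e)
  · -- class two
    have hlt : commutator G < frattini G := lt_of_le_of_ne hcΦ hc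
    have hcc : Nat.card (commutator G) = p := by
      obtain ⟨i, hi⟩ := IsPGroup.iff_card.1 (hG.to_subgroup (commutator G))
      have h2 := card_le_prime_mul_of_lt hG hlt
      rw [hi, hΦ, ← pow_succ', Nat.pow_le_pow_iff_right hp.out.one_lt] at h2
      have hi0 : i ≠ 0 := fun e => hne (eq_bot_of_card_eq _ (by rw [hi, e, pow_zero]))
      rw [hi, show i = 1 by omega, pow_one]
    let f : G →* Abelianization G := (powMonoidHom p).comp Abelianization.of
    have hker : ∀ x, x ∈ f.ker ↔ x ^ p ∈ commutator G := fun x => by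
      rw [MonoidHom.mem_ker, ← Abelianization.ker_of, MonoidHom.mem_ker, map_pow]
      rfl
    set Φ' := (frattini G).map (Abelianization.of : G →* Abelianization G) with hΦ'
    have hΦ'c : Nat.card Φ' ∣ p := by
      have h1 : (frattini G).relIndex ⊤ * 1 = (frattini G).index * 1 := by rw [relIndex_top_right]
      have e : ((Abelianization.of : G →* Abelianization G).comp (frattini G).subtype).range = Φ' := by
        rw [MonoidHom.range_comp, range_subtype]
      have e' : ((Abelianization.of : G →* Abelianization G).comp (frattini G).subtype).ker =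
          (commutator G).subgroupOf (frattini G) := by
        rw [← MonoidHom.comap_ker, Abelianization.ker_of]
        rfl
      rw [← e, ← index_ker, e']
      have h2 := ((commutator G).subgroupOf (frattini G)).card_mul_index
      rw [Nat.card_congr (subgroupOfEquivOfLe hcΦ).toEquiv, hcc, hΦ] at h2
      exact ⟨1, by rw [mul_one]; exact (Nat.eq_of_mul_eq_mul_left hp.out.pos (h2.trans (pow_two p))).symm⟩
    refine hW f.ker ?_ ?_ ?_
    · rw [characteristic_iff_le_comap]
      intro α x hx
      rw [mem_comap, hker]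
      rw [hker] at hx
      show α x ^ p ∈ _
      rw [← map_pow]
      exact (characteristic_iff_le_comap.1 (inferInstance : (commutator G).Characteristic) α) hx
    · intro x hx
      rw [MonoidHom.mem_ker]
      have h1 : (⟨Abelianization.of x, mem_map_of_mem _ hx⟩ : Φ') ^ Nat.card Φ' = 1 :=
        pow_card_eq_one'
      obtain ⟨q, hq⟩ := hΦ'c
      have h2 := congrArg Subtype.val h1
      simp only [SubmonoidClass.coe_pow, OneMemClass.coe_one] at h2
      show Abelianization.of x ^ p = 1
      conv_lhs => rw [hq, pow_mul, h2, one_pow]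
    · have hle : f.range ≤ Φ' := by
        rintro _ ⟨x, rfl⟩
        exact ⟨x ^ p, PFrattini.pow_mem_frattini hG x, map_pow _ x p⟩
      rw [index_ker]
      refine ((Nat.dvd_prime hp.out).1 ((card_dvd_of_le hle).trans hΦ'c)).resolve_left fun e => ?_
      have h1 : frattini G ≤ commutator G := PFrattini.frattini_le le_rfl fun x => by
        rw [← hker, MonoidHom.mem_ker]
        have : f x ∈ f.range := ⟨x, rfl⟩
        rwa [eq_bot_of_card_eq _ e, mem_bot] at this
      exact hlt.not_ge h1

/-- The homomorphism from the quaternion group given by two elements. -/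
noncomputable def quaternionHom {r x : G} (hr : r ^ 4 = 1) (hx : x * x = r ^ 2)
    (hxr : x * r * x⁻¹ = r⁻¹) : QuaternionGroup 2 →* G :=
  MonoidHom.mk' (fun q => match q with
    | QuaternionGroup.a i => r ^ (ZMod.val i)
    | QuaternionGroup.xa i => x * r ^ (ZMod.val i)) (by
    have e : ∀ i j : ZMod (2 * 2), r ^ (i + j).val = r ^ i.val * r ^ j.val := fun i j => by
      rw [← pow_add, ZMod.val_add]
      exact (pow_eq_pow_mod _ hr).symm
    have e1 : ∀ m : ℕ, r ^ m * x = x * (r ^ m)⁻¹ := fun m => by
      have h1 : x * r ^ m * x⁻¹ = (r ^ m)⁻¹ := by rw [← conj_pow, hxr, inv_pow]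
      calc r ^ m * x = ((x * r ^ m * x⁻¹) : G)⁻¹ * x := by rw [h1, inv_inv]
        _ = x * (r ^ m)⁻¹ := by group
    have e2 : ∀ i j : ZMod (2 * 2), r ^ (j - i).val = (r ^ i.val)⁻¹ * r ^ j.val := fun i j => by
      apply eq_inv_mul_of_mul_eq
      rw [← e, add_sub_cancel]
    rintro (i | i) (j | j)
    · exact e i j
    · show x * r ^ (j - i).val = r ^ i.val * (x * r ^ j.val)
      rw [e2, ← mul_assoc (r ^ i.val), e1, mul_assoc]
    · show x * r ^ (i + j).val = x * r ^ i.val * r ^ j.val
      rw [e, mul_assoc]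
    · show r ^ ((2 : ℕ) + j - i : ZMod (2 * 2)).val = x * r ^ i.val * (x * r ^ j.val)
      rw [e2, e, ZMod.val_natCast, show 2 % (2 * 2) = 2 from rfl, ← hx]
      calc (r ^ i.val)⁻¹ * (x * x * r ^ j.val) = (r ^ i.val)⁻¹ * (x * x) * r ^ j.val := by
            simp only [mul_assoc]
        _ = x * (x * (r ^ i.val)⁻¹) * r ^ j.val := by
          rw [← mul_assoc x x]
          congr 1
          have h2 : Commute (x * x) (r ^ i.val) := hx ▸ (Commute.refl r).pow_pow 2 _
          exact h2.inv_right.eq.symm
        _ = x * r ^ i.val * (x * r ^ j.val) := by rw [← e1]; group)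

theorem quaternionHom_a {r x : G} (hr : r ^ 4 = 1) (hx : x * x = r ^ 2)
    (hxr : x * r * x⁻¹ = r⁻¹) : r ∈ (quaternionHom hr hx hxr).range ∧
      x ∈ (quaternionHom hr hx hxr).range :=
  ⟨⟨QuaternionGroup.a 1, pow_one r⟩,
    ⟨QuaternionGroup.xa 0, (show x * r ^ 0 = x by rw [pow_zero, mul_one])⟩⟩

theorem exists_prod_zpowers (hcard : Nat.card G = p ^ 4) {A : Type*} [Group A] [Finite A]
    (hA : Nat.card A = p ^ 3) {f : A →* G} {z : G} (hz : z ∈ center G) (hzp : orderOf z = p)
    (htop : f.range ⊔ zpowers z = ⊤) : Nonempty (G ≃* A × Multiplicative (ZMod p)) := by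
  have : NeZero p := ⟨hp.out.ne_zero⟩
  have hc : Nat.card (zpowers z) = p := by rw [Nat.card_zpowers, hzp]
  let g := f.noncommCoprod (zpowers z).subtype fun a w =>
    (mem_center_iff.1 (zpowers_le.2 hz w.2) (f a))
  have hs : Function.Surjective g := by
    rw [← MonoidHom.range_eq_top, eq_top_iff, ← htop]
    refine sup_le ?_ (fun w hw => ⟨(1, ⟨w, hw⟩), (show f 1 * w = w by rw [map_one, one_mul])⟩)
    rintro _ ⟨a, rfl⟩
    exact ⟨(a, 1), (show f a * 1 = f a from mul_one _)⟩
  obtain ⟨e⟩ := bijective_of_surjective g hs (by rw [Nat.card_prod, hA, hc, hcard]; ring)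
  have hcy : IsCyclic (zpowers z) := isCyclic_of_prime_card hc
  exact ⟨e.trans ((MulEquiv.refl A).prodCongr (mulEquivOfCyclicCardEq (by rw [hc]; simp)))⟩

theorem abelian_rank_three (hG : IsPGroup p G) (hcard : Nat.card G = p ^ 4)
    (hab : ∀ a b : G, a * b = b * a) (hΦ : Nat.card (frattini G) = p) :
    Nonempty (G ≃* Multiplicative (ZMod (p ^ 2) × ZMod p × ZMod p)) := by
  have : NeZero p := ⟨hp.out.ne_zero⟩
  have : NeZero (p ^ 2) := ⟨pow_ne_zero 2 hp.out.ne_zero⟩
  let f : G →* G := { toFun := fun x => x ^ p, map_one' := one_pow p,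
                      map_mul' := fun x y => (show Commute x y from hab x y).mul_pow p }
  have hrange : f.range ≤ frattini G := by
    rintro _ ⟨x, rfl⟩
    exact PFrattini.pow_mem_frattini hG x
  obtain ⟨a, ha⟩ : ∃ a : G, a ^ p ≠ 1 := by
    by_contra hcon
    push Not at hcon
    have h := card_le_of_le (PFrattini.frattini_le (N := (⊥ : Subgroup G)) (by
      rw [_root_.commutator_def, commutator_le]
      intro x _ y _
      rw [mem_bot, commutatorElement_eq_one_iff_mul_comm]
      exact hab x y) fun x => mem_bot.2 (hcon x))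
    rw [hΦ, card_bot] at h
    exact absurd h (not_le.2 hp.out.one_lt)
  have hao : orderOf a = p ^ 2 := orderOf_eq_prime_pow (n := 1) (by rwa [pow_one])
    (by
      have := pow_sq_eq_one hG (k := 1) (by rw [pow_one, hΦ]) a
      rwa [pow_one, ← pow_two] at this)
  have hker : Nat.card f.ker = p ^ 3 := by
    have h1 : Nat.card f.range = p := by
      refine ((Nat.dvd_prime hp.out).1 (hΦ ▸ card_dvd_of_le hrange)).resolve_left fun e => ha ?_
      have : f a ∈ f.range := ⟨a, rfl⟩
      rwa [eq_bot_of_card_eq _ e, mem_bot] at this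
    have h2 := f.ker.card_mul_index
    rw [index_ker, h1, hcard] at h2
    exact Nat.eq_of_mul_eq_mul_right hp.out.pos (h2.trans (by ring))
  set z := a ^ p with hzd
  have hzo : orderOf z = p := by
    rw [hzd, orderOf_pow_of_dvd hp.out.ne_zero (hao ▸ dvd_pow_self p two_ne_zero), hao, pow_two,
      Nat.mul_div_cancel _ hp.out.pos]
  have hzk : zpowers z ≤ f.ker := zpowers_le.2 (by
    show z ^ p = 1
    rw [← hzo]; exact pow_orderOf_eq_one z)
  have hnorm : ∀ K : Subgroup G, K.Normal := fun K => ⟨fun n hn g => by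
    rw [hab g n, mul_inv_cancel_right]; exact hn⟩
  have hzc : Nat.card (zpowers z) = p := by rw [Nat.card_zpowers, hzo]
  obtain ⟨b, hb, hbz⟩ : ∃ b ∈ f.ker, b ∉ zpowers z := by
    by_contra hcon
    push Not at hcon
    have h := card_le_of_le (hcon : f.ker ≤ zpowers z)
    rw [hker, hzc] at h
    exact absurd h (not_le.2 (by simpa using Nat.pow_lt_pow_right hp.out.one_lt (show 1 < 3 by norm_num)))
  obtain ⟨c, hc, hcz⟩ : ∃ c ∈ f.ker, c ∉ zpowers z ⊔ zpowers b := by
    by_contra hcon
    push Not at hcon
    have := hnorm (zpowers z)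
    have h := (card_le_of_le (hcon : f.ker ≤ zpowers z ⊔ zpowers b)).trans
      (card_sup_zpowers_le (p := p) (show b ^ p ∈ zpowers z from by
        rw [show b ^ p = 1 from hb]; exact one_mem _))
    rw [hker, hzc, ← pow_two] at h
    exact absurd h (not_le.2 (Nat.pow_lt_pow_right hp.out.one_lt (show 2 < 3 by norm_num)))
  have hA : zpowers z ⊔ zpowers b ⊔ zpowers c = f.ker := by
    refine eq_of_le_of_card_ge (sup_le (sup_le hzk (zpowers_le.2 hb)) (zpowers_le.2 hc)) ?_
    have h1 := card_le_prime_mul_of_lt hG (lt_of_le_of_ne (le_sup_left : zpowers z ≤ zpowers z ⊔ zpowers b)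
      fun e => hbz (e ▸ mem_sup_right (mem_zpowers b)))
    have h2 := card_le_prime_mul_of_lt hG (lt_of_le_of_ne
      (le_sup_left : zpowers z ⊔ zpowers b ≤ zpowers z ⊔ zpowers b ⊔ zpowers c)
      fun e => hcz (e ▸ mem_sup_right (mem_zpowers c)))
    rw [hzc] at h1
    rw [hker]
    calc p ^ 3 = p * (p * p) := by ring
      _ ≤ _ := (Nat.mul_le_mul_left _ h1).trans h2
  have hbo : orderOf b = p := orderOf_eq_prime hb fun e => hbz (e ▸ one_mem _)
  have hco : orderOf c = p := orderOf_eq_prime hc fun e => hcz (e ▸ one_mem _)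
  let g := (zpowers a).subtype.noncommCoprod
    ((zpowers b).subtype.noncommCoprod (zpowers c).subtype fun _ _ => hab _ _) fun _ _ => hab _ _
  have hgr : ∀ (u : zpowers a) (v : zpowers b) (w : zpowers c), (u : G) * (v * w) ∈ g.range :=
    fun u v w => ⟨(u, v, w), rfl⟩
  have htop : g.range = ⊤ := by
    have hle : f.ker ⊔ zpowers a ≤ g.range := by
      rw [← hA]
      refine sup_le (sup_le (sup_le ?_ ?_) ?_) ?_ <;> rw [zpowers_le]
      · simpa using hgr ⟨z, pow_mem (mem_zpowers a) p⟩ 1 1
      · simpa using hgr 1 ⟨b, mem_zpowers b⟩ 1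
      · simpa using hgr 1 1 ⟨c, mem_zpowers c⟩
      · simpa using hgr ⟨a, mem_zpowers a⟩ 1 1
    refine top_le_iff.1 (le_trans ?_ hle)
    refine le_of_eq (eq_top_of_le_card _ ?_).symm
    have h1 := card_le_prime_mul_of_lt hG (lt_of_le_of_ne (le_sup_left : f.ker ≤ f.ker ⊔ zpowers a)
      fun e => ha ((e ▸ mem_sup_right (mem_zpowers a) : a ∈ f.ker)))
    rw [hker] at h1
    rw [hcard]
    exact (by ring : p ^ 4 = p * p ^ 3).trans_le h1
  obtain ⟨e⟩ := bijective_of_surjective g (MonoidHom.range_eq_top.1 htop) (by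
    rw [Nat.card_prod, Nat.card_prod, Nat.card_zpowers, Nat.card_zpowers, Nat.card_zpowers, hao, hbo,
      hco, hcard]
    ring)
  refine ⟨e.trans ?_⟩
  refine MulEquiv.trans ?_ (MulEquiv.prodMultiplicative _ _).symm
  refine (mulEquivOfCyclicCardEq (by rw [Nat.card_zpowers, hao]; simp)).prodCongr ?_
  exact ((mulEquivOfCyclicCardEq (by rw [Nat.card_zpowers, hbo]; simp)).prodCongr
    (mulEquivOfCyclicCardEq (by rw [Nat.card_zpowers, hco]; simp))).trans
    (MulEquiv.prodMultiplicative _ _).symm

end Cfsg.Agent.Lib.EssentialFour
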